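import Mathlib.LinearAlgebra.SymplecticGroup
import Mathlib.LinearAlgebra.Matrix.NonsingularInverse
import Mathlib.Tactic.LinearCombination
import Mathlib.Tactic.Ring
import Mathlib.Tactic.FinCases

/-! Block factorisations in `Sp₄`: a symplectic matrix whose upper left block is a product of two
conjugates of `l` is a product of two conjugates of `diag(l, l⁻ᵀ)`. -/

set_option autoImplicit false

namespace CfsgLib.PSpFourSquare

open Matrix

variable {F : Type*} [Field F]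

/-- The group `Sp₄`. -/
abbrev Sp4 (F : Type*) [Field F] := symplecticGroup (Fin 2) F

/-- Two by two matrices. -/
abbrev M2 (F : Type*) := Matrix (Fin 2) (Fin 2) F

/-- Four by four matrices. -/
abbrev M4 (F : Type*) := Matrix (Fin 2 ⊕ Fin 2) (Fin 2 ⊕ Fin 2) F

/-- The Levi factor. -/
def lvi : (M2 F)ˣ →* Sp4 F where
  toFun P := ⟨fromBlocks (P : M2 F) 0 0 ((P⁻¹ : (M2 F)ˣ) : M2 F)ᵀ, by
    rw [SymplecticGroup.fromBlocks_mem_iff]
    refine ⟨by simp, by simp, ?_⟩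
    rw [← transpose_mul, Units.inv_mul]; simp⟩
  map_one' := by
    apply Subtype.ext
    simp
  map_mul' P Q := by
    apply Subtype.ext
    simp [fromBlocks_multiply]

theorem coe_lvi (P : (M2 F)ˣ) :
    (lvi P : M4 F) = fromBlocks (P : M2 F) 0 0 ((P⁻¹ : (M2 F)ˣ) : M2 F)ᵀ := rfl

/-- Upper unipotent elements. -/
def upp (S : M2 F) (hS : Sᵀ = S) : Sp4 F :=
  ⟨fromBlocks 1 S 0 1, by rw [SymplecticGroup.fromBlocks_mem_iff]; simp [hS]⟩

/-- Lower unipotent elements. -/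
def low (S : M2 F) (hS : Sᵀ = S) : Sp4 F :=
  ⟨fromBlocks 1 0 S 1, by rw [SymplecticGroup.fromBlocks_mem_iff]; simp [hS]⟩

theorem coe_upp (S : M2 F) (hS : Sᵀ = S) : ((upp S hS : Sp4 F) : M4 F) = fromBlocks 1 S 0 1 := rfl

theorem coe_low (S : M2 F) (hS : Sᵀ = S) : ((low S hS : Sp4 F) : M4 F) = fromBlocks 1 0 S 1 := rfl

theorem upp_inv (S : M2 F) (hS : Sᵀ = S) :
    (upp S hS)⁻¹ = upp (-S) (by rw [transpose_neg, hS]) :=
  inv_eq_of_mul_eq_one_right (Subtype.ext (by simp [coe_upp, fromBlocks_multiply]))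

theorem low_inv (S : M2 F) (hS : Sᵀ = S) :
    (low S hS)⁻¹ = low (-S) (by rw [transpose_neg, hS]) :=
  inv_eq_of_mul_eq_one_right (Subtype.ext (by simp [coe_low, fromBlocks_multiply]))

theorem mem_data (G : Sp4 F) {A B C D : M2 F} (h : (G : M4 F) = fromBlocks A B C D) :
    Aᵀ * C = Cᵀ * A ∧ Bᵀ * D = Dᵀ * B ∧ Aᵀ * D - Cᵀ * B = 1 :=
  SymplecticGroup.fromBlocks_mem_iff.1 (h ▸ G.2)

theorem lvi_low (P : (M2 F)ˣ) (K : M2 F) (hK : Kᵀ = K) :
    ∀ N : M2 F, ∀ hN : Nᵀ = N, ((P : M2 F))ᵀ * N * (P : M2 F) = K →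
      lvi P * low K hK * (lvi P)⁻¹ = low N hN := by
  intro N hN h
  rw [mul_inv_eq_iff_eq_mul]
  apply Subtype.ext
  simp only [Submonoid.coe_mul, coe_lvi, coe_low, fromBlocks_multiply, mul_one, mul_zero, add_zero,
    zero_add, zero_mul, one_mul]
  congr 1
  rw [← h, ← mul_assoc, ← mul_assoc, ← transpose_mul, Units.mul_inv]
  simp

theorem lvi_upp (P : (M2 F)ˣ) (K : M2 F) (hK : Kᵀ = K) :
    ∀ N : M2 F, ∀ hN : Nᵀ = N, (P : M2 F) * K * (P : M2 F)ᵀ = N →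
      lvi P * upp K hK * (lvi P)⁻¹ = upp N hN := by
  intro N hN h
  rw [mul_inv_eq_iff_eq_mul]
  apply Subtype.ext
  simp only [Submonoid.coe_mul, coe_lvi, coe_upp, fromBlocks_multiply, mul_one, mul_zero, add_zero,
    zero_add, zero_mul, one_mul]
  congr 1
  rw [← h, mul_assoc, ← transpose_mul, Units.inv_mul]
  simp

/-- `G` is a product of two conjugates of `x`. -/
def Good (x G : Sp4 F) : Prop := ∃ u v : Sp4 F, G = u * x * u⁻¹ * (v * x * v⁻¹)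

theorem Good.conj {x G : Sp4 F} (h : Good x G) (g : Sp4 F) : Good x (g * G * g⁻¹) := by
  obtain ⟨u, v, rfl⟩ := h
  exact ⟨g * u, g * v, by group⟩

theorem good_of_conj {x G : Sp4 F} (g : Sp4 F) (h : Good x (g * G * g⁻¹)) : Good x G := by
  have h2 := h.conj g⁻¹
  rwa [show g⁻¹ * (g * G * g⁻¹) * g⁻¹⁻¹ = G by group] at h2

/-- No nonzero symmetric form is fixed by `l` or by its transpose. -/
structure Regular (l : (M2 F)ˣ) : Prop where
  lo : ∀ Z : M2 F, Zᵀ = Z → (l : M2 F)ᵀ * Z * (l : M2 F) = Z → Z = 0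
  up : ∀ Z : M2 F, Zᵀ = Z → (l : M2 F) * Z * (l : M2 F)ᵀ = Z → Z = 0

theorem solve_symm [Finite F] (M M' : M2 F) (hM' : M'ᵀ = M)
    (h : ∀ Z : M2 F, Zᵀ = Z → M * Z * M' = Z → Z = 0) (N : M2 F) (hN : Nᵀ = N) :
    ∃ Z : M2 F, Zᵀ = Z ∧ Z - M * Z * M' = N := by
  have hM : Mᵀ = M' := by rw [← hM', transpose_transpose]
  let f : {Z : M2 F // Zᵀ = Z} → {Z : M2 F // Zᵀ = Z} := fun Z => ⟨Z.1 - M * Z.1 * M', by
    rw [transpose_sub, transpose_mul, transpose_mul, hM, hM', Z.2, mul_assoc]⟩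
  have hf : Function.Injective f := by
    intro Z W hZW
    have h1 : Z.1 - M * Z.1 * M' = W.1 - M * W.1 * M' := congrArg Subtype.val hZW
    have h2 := h (Z.1 - W.1) (by rw [transpose_sub, Z.2, W.2]) (by
      rw [mul_sub, sub_mul]
      rw [sub_eq_sub_iff_sub_eq_sub] at h1
      exact h1.symm)
    exact Subtype.ext (sub_eq_zero.1 h2)
  obtain ⟨Z, hZ⟩ := (Finite.injective_iff_surjective.1 hf) ⟨N, hN⟩
  exact ⟨Z.1, Z.2, congrArg Subtype.val hZ⟩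

theorem transpose_inv_mul_self (P : (M2 F)ˣ) :
    ((P⁻¹ : (M2 F)ˣ) : M2 F)ᵀ * (P : M2 F)ᵀ = 1 := by
  rw [← transpose_mul, Units.mul_inv, transpose_one]

theorem transpose_self_mul_inv (P : (M2 F)ˣ) :
    (P : M2 F)ᵀ * ((P⁻¹ : (M2 F)ˣ) : M2 F)ᵀ = 1 := by
  rw [← transpose_mul, Units.inv_mul, transpose_one]

theorem conj_fixed {M M' L L' Z : M2 F} (h1 : L * M = 1) (h2 : M' * L' = 1)
    (h : M * Z * M' = Z) : L * Z * L' = Z := by
  calc L * Z * L' = L * (M * Z * M') * L' := by rw [h]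
    _ = (L * M) * Z * (M' * L') := by simp only [mul_assoc]
    _ = Z := by rw [h1, h2, one_mul, mul_one]

theorem isConj_low [Finite F] (l : (M2 F)ˣ) (hl : Regular l) (N : M2 F) (hN : Nᵀ = N) :
    ∃ u : Sp4 F, low N hN * lvi l = u * lvi l * u⁻¹ := by
  set L : M2 F := ((l⁻¹ : (M2 F)ˣ) : M2 F) with hL
  obtain ⟨Z, hZ, hZN⟩ := solve_symm Lᵀ L rfl (fun Z hZ h => hl.lo Z hZ
    (conj_fixed (transpose_self_mul_inv l) (Units.inv_mul l) h)) N hN
  refine ⟨low Z hZ, ?_⟩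
  rw [eq_mul_inv_iff_mul_eq]
  apply Subtype.ext
  simp only [Submonoid.coe_mul, coe_lvi, coe_low, fromBlocks_multiply, mul_one, mul_zero, add_zero,
    zero_add, zero_mul, one_mul]
  congr 1
  rw [← hZN, sub_mul, mul_assoc (Lᵀ * Z) L, hL, Units.inv_mul, mul_one]
  abel

theorem isConj_upp [Finite F] (l : (M2 F)ˣ) (hl : Regular l) (N : M2 F) (hN : Nᵀ = N) :
    ∃ u : Sp4 F, lvi l * upp N hN = u * lvi l * u⁻¹ := by
  set L : M2 F := (l : M2 F) with hL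
  obtain ⟨Z, hZ, hZN⟩ := solve_symm L Lᵀ (transpose_transpose L) hl.up (L * N * Lᵀ) (by
    rw [transpose_mul, transpose_mul, transpose_transpose, hN, mul_assoc])
  refine ⟨upp Z hZ, ?_⟩
  rw [eq_mul_inv_iff_mul_eq]
  apply Subtype.ext
  simp only [Submonoid.coe_mul, coe_lvi, coe_upp, fromBlocks_multiply, mul_one, mul_zero, add_zero,
    zero_add, zero_mul, one_mul]
  congr 1
  have h1 : L * Z + L * N = (L * Z * Lᵀ + L * N * Lᵀ) * ((l⁻¹ : (M2 F)ˣ) : M2 F)ᵀ := by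
    rw [add_mul, mul_assoc (L * Z), mul_assoc (L * N), hL, transpose_self_mul_inv, mul_one, mul_one]
  rw [h1, ← hZN]
  congr 1
  abel

/-- The Gauss step. -/
theorem good_of_block [Finite F] (l : (M2 F)ˣ) (hl : Regular l) (G : Sp4 F) (A B C D : M2 F)
    (hG : (G : M4 F) = fromBlocks A B C D) (P Q : (M2 F)ˣ)
    (hA : A = ((P * l * P⁻¹ * (Q * l * Q⁻¹) : (M2 F)ˣ) : M2 F)) : Good (lvi l) G := by
  obtain ⟨h1, h2, h3⟩ := mem_data G hG
  set U : (M2 F)ˣ := P * l * P⁻¹ * (Q * l * Q⁻¹) with hU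
  subst hA
  obtain ⟨V, hV⟩ : ∃ V : M2 F, V = ((U⁻¹ : (M2 F)ˣ) : M2 F) := ⟨_, rfl⟩
  obtain ⟨K, hK0⟩ : ∃ K : M2 F, K = C * V := ⟨_, rfl⟩
  obtain ⟨K', hK0'⟩ : ∃ K' : M2 F, K' = V * B := ⟨_, rfl⟩
  have hCK : K * (U : M2 F) = C := by rw [hK0, mul_assoc, hV, Units.inv_mul, mul_one]
  have hBK : (U : M2 F) * K' = B := by rw [hK0', ← mul_assoc, hV, Units.mul_inv, one_mul]
  have hK : Kᵀ = K := by
    calc Kᵀ = Vᵀ * Cᵀ := by rw [hK0, transpose_mul]
      _ = Vᵀ * Cᵀ * ((U : M2 F) * V) := by rw [hV, Units.mul_inv, mul_one]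
      _ = Vᵀ * (Cᵀ * (U : M2 F)) * V := by simp only [mul_assoc]
      _ = Vᵀ * ((U : M2 F)ᵀ * C) * V := by rw [h1]
      _ = (Vᵀ * (U : M2 F)ᵀ) * (C * V) := by simp only [mul_assoc]
      _ = K := by rw [hV, transpose_inv_mul_self, one_mul, hK0, hV]
  have hD : D = K * (U : M2 F) * K' + Vᵀ := by
    rw [sub_eq_iff_eq_add] at h3
    calc D = (Vᵀ * (U : M2 F)ᵀ) * D := by rw [hV, transpose_inv_mul_self, one_mul]
      _ = Vᵀ * ((U : M2 F)ᵀ * D) := by rw [mul_assoc]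
      _ = Vᵀ + (C * V)ᵀ * B := by rw [h3, mul_add, mul_one, transpose_mul, mul_assoc]
      _ = K * (U : M2 F) * K' + Vᵀ := by rw [← hK0, hK, mul_assoc K, hBK, add_comm]
  have hK' : K'ᵀ = K' := by
    rw [hD, ← hBK] at h2
    simp only [mul_add, add_mul, transpose_add, transpose_mul, transpose_transpose, hK,
      mul_assoc] at h2
    rw [add_left_cancel_iff, hV, transpose_self_mul_inv, mul_one,
      ← mul_assoc _ (U : M2 F), Units.inv_mul, one_mul] at h2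
    exact h2
  have hfac : G = low K hK * lvi U * upp K' hK' := by
    apply Subtype.ext
    simp only [Submonoid.coe_mul, coe_lvi, coe_upp, coe_low, fromBlocks_multiply, mul_one, mul_zero,
      add_zero, zero_add, zero_mul, one_mul, hG, hCK, hBK]
    congr 1
    rw [hD, hCK, hV]
  have hN1 : ((P : M2 F)ᵀ * K * (P : M2 F))ᵀ = (P : M2 F)ᵀ * K * (P : M2 F) := by
    rw [transpose_mul, transpose_mul, transpose_transpose, hK, mul_assoc]
  have hN2 : (((Q⁻¹ : (M2 F)ˣ) : M2 F) * K' * ((Q⁻¹ : (M2 F)ˣ) : M2 F)ᵀ)ᵀ =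
      ((Q⁻¹ : (M2 F)ˣ) : M2 F) * K' * ((Q⁻¹ : (M2 F)ˣ) : M2 F)ᵀ := by
    rw [transpose_mul, transpose_mul, transpose_transpose, hK', mul_assoc]
  obtain ⟨u, hu⟩ := isConj_low l hl _ hN1
  obtain ⟨v, hv⟩ := isConj_upp l hl _ hN2
  refine ⟨lvi P * u, lvi Q * v, ?_⟩
  have h3' : lvi P * low _ hN1 * (lvi P)⁻¹ = low K hK := lvi_low P _ hN1 K hK rfl
  have h4 : lvi Q * upp _ hN2 * (lvi Q)⁻¹ = upp K' hK' :=
    lvi_upp Q _ hN2 K' hK' (by
      simp only [mul_assoc, transpose_inv_mul_self, mul_one]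
      rw [← mul_assoc, Units.mul_inv, one_mul])
  rw [hfac, ← h3', ← h4, hU, map_mul, map_mul, map_mul, map_mul, map_mul, map_inv, map_inv]
  generalize low _ hN1 = X at hu ⊢
  generalize upp _ hN2 = Y at hv ⊢
  calc lvi P * X * (lvi P)⁻¹ * (lvi P * lvi l * (lvi P)⁻¹ * (lvi Q * lvi l * (lvi Q)⁻¹)) *
      (lvi Q * Y * (lvi Q)⁻¹)
      = lvi P * (X * lvi l) * (lvi P)⁻¹ * (lvi Q * (lvi l * Y) * (lvi Q)⁻¹) := by group
    _ = _ := by rw [hu, hv]; group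

end CfsgLib.PSpFourSquare
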