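import Cfsg.Agent.Lib.PSpFourSquare.Basic
import Mathlib.Tactic.FieldSimp

/-! Moving a non-central element of `Sp₄` so that its upper left block has prescribed determinant
and an allowed trace. -/

set_option autoImplicit false

namespace CfsgLib.PSpFourSquare

open Matrix

variable {F : Type*} [Field F]

/-- The companion matrix with determinant `d` and trace `t`. -/
def comp (d t : F) : M2 F := !![0, -d; 1, t]

/-- Not a scalar matrix. -/
def NonScalar (A : M2 F) : Prop := A 0 1 ≠ 0 ∨ A 1 0 ≠ 0 ∨ A 0 0 ≠ A 1 1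

theorem exists_comp (A : M2 F) (hA : NonScalar A) :
    ∃ P : (M2 F)ˣ, A * (P : M2 F) = (P : M2 F) * comp A.det A.trace := by
  suffices h : ∃ v0 v1 : F, v0 * (A 1 0 * v0 + A 1 1 * v1) - v1 * (A 0 0 * v0 + A 0 1 * v1) ≠ 0 by
    obtain ⟨v0, v1, hv⟩ := h
    set P : M2 F := !![v0, A 0 0 * v0 + A 0 1 * v1; v1, A 1 0 * v0 + A 1 1 * v1] with hP
    have hdet : P.det ≠ 0 := by
      rw [hP, det_fin_two_of]
      intro h0; exact hv (by linear_combination h0)
    refine ⟨P.nonsingInvUnit (isUnit_iff_ne_zero.2 hdet), ?_⟩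
    show A * P = P * comp A.det A.trace
    ext i j
    fin_cases i <;> fin_cases j <;>
      simp [hP, comp, Matrix.mul_apply, Fin.sum_univ_two, det_fin_two, trace_fin_two] <;> ring
  by_cases h10 : A 1 0 = 0
  swap
  · exact ⟨1, 0, by simpa using h10⟩
  by_cases h01 : A 0 1 = 0
  swap
  · exact ⟨0, 1, by simpa using h01⟩
  rcases hA with h | h | h
  · exact absurd h01 h
  · exact absurd h10 h
  · refine ⟨1, 1, ?_⟩
    simp only [h10, h01]
    intro h0; exact h (by linear_combination -h0)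

/-- The data about `l` used in the case analysis. -/
structure Data (l : (M2 F)ˣ) (Tok : F → Prop) : Prop where
  reg : Regular l
  witness : ∀ t, Tok t → ∃ P Q : (M2 F)ˣ,
    comp ((l : M2 F).det ^ 2) t = ((P * l * P⁻¹ * (Q * l * Q⁻¹) : (M2 F)ˣ) : M2 F)

theorem good_of_nonscalar [Finite F] {l : (M2 F)ˣ} {Tok : F → Prop} (hl : Data l Tok) (G : Sp4 F)
    (A B C D : M2 F) (hG : (G : M4 F) = fromBlocks A B C D) (hA : NonScalar A)
    (hd : A.det = (l : M2 F).det ^ 2) (ht : Tok A.trace) : Good (lvi l) G := by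
  obtain ⟨R, hR⟩ := exists_comp A hA
  obtain ⟨P, Q, hPQ⟩ := hl.witness _ ht
  refine good_of_block l hl.reg G A B C D hG (R * P) (R * Q) ?_
  rw [hd, hPQ] at hR
  have h : R * P * l * (R * P)⁻¹ * (R * Q * l * (R * Q)⁻¹) =
      R * (P * l * P⁻¹ * (Q * l * Q⁻¹)) * R⁻¹ := by group
  rw [h, Units.val_mul, Units.val_mul, ← hR, mul_assoc, Units.mul_inv, mul_one]

theorem conj_upp (G : Sp4 F) (A B C D S : M2 F) (hG : (G : M4 F) = fromBlocks A B C D)
    (hS : Sᵀ = S) : ((upp S hS * G * (upp S hS)⁻¹ : Sp4 F) : M4 F) =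
      fromBlocks (A + S * C) (B + S * D - (A + S * C) * S) C (D - C * S) := by
  rw [upp_inv]
  simp only [Submonoid.coe_mul, coe_upp, hG, fromBlocks_multiply, mul_one, mul_zero, add_zero,
    zero_add, zero_mul, one_mul, mul_neg]
  congr 1 <;> abel

theorem conj_low (G : Sp4 F) (A B C D S : M2 F) (hG : (G : M4 F) = fromBlocks A B C D)
    (hS : Sᵀ = S) : ((low S hS * G * (low S hS)⁻¹ : Sp4 F) : M4 F) =
      fromBlocks (A - B * S) B (C + S * A - (D + S * B) * S) (D + S * B) := by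
  rw [low_inv]
  simp only [Submonoid.coe_mul, coe_low, hG, fromBlocks_multiply, mul_one, mul_zero, add_zero,
    zero_add, zero_mul, one_mul, mul_neg]
  congr 1 <;> abel

theorem conj_lvi (G : Sp4 F) (A B C D : M2 F) (P : (M2 F)ˣ)
    (hG : (G : M4 F) = fromBlocks A B C D) :
    ((lvi P * G * (lvi P)⁻¹ : Sp4 F) : M4 F) =
      fromBlocks ((P : M2 F) * A * ((P⁻¹ : (M2 F)ˣ) : M2 F)) ((P : M2 F) * B * (P : M2 F)ᵀ)
        (((P⁻¹ : (M2 F)ˣ) : M2 F)ᵀ * C * ((P⁻¹ : (M2 F)ˣ) : M2 F))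
        (((P⁻¹ : (M2 F)ˣ) : M2 F)ᵀ * D * (P : M2 F)ᵀ) := by
  rw [← map_inv]
  simp only [Submonoid.coe_mul, coe_lvi, inv_inv, hG, fromBlocks_multiply, mul_zero, add_zero,
    zero_add, zero_mul]

theorem conj_J (G : Sp4 F) (A B C D : M2 F) (hG : (G : M4 F) = fromBlocks A B C D) :
    ((SymplecticGroup.symJ (Fin 2) F * G * (SymplecticGroup.symJ (Fin 2) F)⁻¹ : Sp4 F) : M4 F) =
      fromBlocks D (-C) (-B) A := by
  simp [Submonoid.coe_mul, SymplecticGroup.coe_inv, hG, J, fromBlocks_multiply, fromBlocks_transpose,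
    fromBlocks_neg]

theorem mem_center_of (G : Sp4 F)
    (h : ∀ g : Sp4 F, ((g * G * g⁻¹ : Sp4 F) : M4 F).toBlocks₂₁ = 0) :
    G ∈ Subgroup.center (Sp4 F) := by
  obtain ⟨A, B, C, D, hG⟩ : ∃ A B C D, (G : M4 F) = fromBlocks A B C D :=
    ⟨_, _, _, _, (fromBlocks_toBlocks _).symm⟩
  have hC : C = 0 := by
    have := h 1
    simpa [hG] using this
  have hB : B = 0 := by
    have := h (SymplecticGroup.symJ (Fin 2) F)
    rw [conj_J G A B C D hG] at this
    simpa using this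
  have key : ∀ S : M2 F, Sᵀ = S → S * A = D * S := fun S hS => by
    have := h (low S hS)
    rw [conj_low G A B C D S hG hS, toBlocks_fromBlocks₂₁, hC, hB, mul_zero, add_zero, zero_add,
      sub_eq_zero] at this
    exact this
  have hAD : A = D := by simpa using key 1 transpose_one
  subst hAD
  have h1 := key !![1, 0; 0, 0] (by ext i j; fin_cases i <;> fin_cases j <;> rfl)
  have h2 := key !![0, 1; 1, 0] (by ext i j; fin_cases i <;> fin_cases j <;> rfl)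
  have a01 : A 0 1 = 0 := by simpa [Matrix.mul_apply, Fin.sum_univ_two] using congrFun (congrFun h1 0) 1
  have a10 : A 1 0 = 0 := by
    simpa [Matrix.mul_apply, Fin.sum_univ_two] using (congrFun (congrFun h1 1) 0).symm
  have a11 : A 1 1 = A 0 0 := by
    simpa [Matrix.mul_apply, Fin.sum_univ_two] using congrFun (congrFun h2 0) 1
  have hs : (G : M4 F) = A 0 0 • 1 := by
    rw [hG, hB, hC, ← fromBlocks_one, fromBlocks_smul]
    congr 1 <;> ext i j <;> fin_cases i <;> fin_cases j <;> simp [a01, a10, a11]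
  rw [Subgroup.mem_center_iff]
  intro g
  apply Subtype.ext
  rw [Submonoid.coe_mul, Submonoid.coe_mul, hs, Matrix.mul_smul, Matrix.smul_mul, mul_one, one_mul]

/-- A non-central element has a conjugate with nonzero lower left block. -/
theorem exists_lower_ne_zero (G : Sp4 F) (hG : G ∉ Subgroup.center (Sp4 F)) :
    ∃ (g : Sp4 F) (A B C D : M2 F),
      ((g * G * g⁻¹ : Sp4 F) : M4 F) = fromBlocks A B C D ∧ C ≠ 0 := by
  by_contra! hn
  exact hG (mem_center_of G fun g => hn g _ _ _ _ (fromBlocks_toBlocks _).symm)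

/-- A symmetric `S` making `S * C` usable exists. -/
def Adm (l : (M2 F)ˣ) (Tok : F → Prop) (C : M2 F) : Prop :=
  ∃ S : M2 F, Sᵀ = S ∧ (S * C).det = (l : M2 F).det ^ 2 ∧ NonScalar (S * C) ∧ Tok (S * C).trace

theorem good_of_adm [Finite F] {l : (M2 F)ˣ} {Tok : F → Prop} (hl : Data l Tok) (G : Sp4 F)
    (A B C D : M2 F) (hG : (G : M4 F) = fromBlocks A B C D) (hdet : C.det ≠ 0)
    (hC : Adm l Tok C) : Good (lvi l) G := by
  obtain ⟨h1, -, -⟩ := mem_data G hG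
  obtain ⟨T, hT, hd, hn, ht⟩ := hC
  have hu : IsUnit C.det := isUnit_iff_ne_zero.2 hdet
  have hAC : (A * C⁻¹)ᵀ = A * C⁻¹ := by
    rw [transpose_mul, transpose_nonsing_inv]
    have hut : IsUnit Cᵀ.det := by rwa [det_transpose]
    calc Cᵀ⁻¹ * Aᵀ = Cᵀ⁻¹ * (Aᵀ * C) * C⁻¹ := by
          rw [mul_assoc, mul_assoc, mul_nonsing_inv _ hu, mul_one]
      _ = _ := by rw [h1, ← mul_assoc, nonsing_inv_mul _ hut, one_mul]
  have hS : (T - A * C⁻¹)ᵀ = T - A * C⁻¹ := by rw [transpose_sub, hT, hAC]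
  have hA' : A + (T - A * C⁻¹) * C = T * C := by
    rw [sub_mul, mul_assoc A, nonsing_inv_mul _ hu, mul_one]; abel
  apply good_of_conj (upp _ hS)
  refine good_of_nonscalar hl _ _ _ _ _ (conj_upp G A B C D _ hG hS) ?_ ?_ ?_
  · rwa [hA']
  · rwa [hA']
  · rwa [hA']

theorem exists_symm_mulVec (c k w0 w1 : F) (h : c ≠ 0 ∨ k ≠ 0) :
    ∃ s11 s12 s22 : F, s11 * c + s12 * k = w0 ∧ s12 * c + s22 * k = w1 := by
  by_cases hc : c = 0
  · subst hc
    have hk : k ≠ 0 := h.resolve_left (· rfl)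
    exact ⟨0, w0 / k, w1 / k, by field_simp; ring, by field_simp; ring⟩
  · refine ⟨(w0 - w1 / c * k) / c, w1 / c, 0, ?_, ?_⟩
    · field_simp; ring
    · field_simp; ring

/-- The exceptional shape. -/
def Exc (G : Sp4 F) (r : F) : Prop :=
  ∃ A B C D : M2 F, (G : M4 F) = fromBlocks A B C D ∧ C 0 0 ≠ 0 ∧ C 0 1 = 0 ∧ C 1 0 = 0 ∧
    C 1 1 = 0 ∧ A 0 1 = 0 ∧ A 1 1 = r ∧ r ≠ 0

theorem good_of_column [Finite F] {l : (M2 F)ˣ} {Tok : F → Prop} (hl : Data l Tok) (G : Sp4 F)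
    (A B C D : M2 F) (hG : (G : M4 F) = fromBlocks A B C D) (hC : C 0 0 ≠ 0 ∨ C 1 0 ≠ 0)
    (h01 : C 0 1 = 0) (h11 : C 1 1 = 0) (a0 a1 : F)
    (hn : NonScalar !![a0, A 0 1; a1, A 1 1])
    (hd : a0 * A 1 1 - A 0 1 * a1 = (l : M2 F).det ^ 2) (ht : Tok (a0 + A 1 1)) :
    Good (lvi l) G := by
  obtain ⟨s11, s12, s22, e0, e1⟩ := exists_symm_mulVec (C 0 0) (C 1 0) (a0 - A 0 0) (a1 - A 1 0) hC
  set S : M2 F := !![s11, s12; s12, s22] with hS'
  have hS : Sᵀ = S := by ext i j; fin_cases i <;> fin_cases j <;> rfl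
  have hA' : A + S * C = !![a0, A 0 1; a1, A 1 1] := by
    ext i j
    fin_cases i <;> fin_cases j <;> simp [hS', Matrix.mul_apply, Matrix.vecMul, dotProduct, Fin.sum_univ_two, h01, h11]
    · linear_combination e0
    · linear_combination e1
  apply good_of_conj (upp S hS)
  refine good_of_nonscalar hl _ _ _ _ _ (conj_upp G A B C D S hG hS) ?_ ?_ ?_
  · rwa [hA']
  · rw [hA', det_fin_two_of]; linear_combination hd
  · rw [hA', trace_fin_two]; simpa using ht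

theorem good_of_exc [Finite F] {l : (M2 F)ˣ} {Tok : F → Prop} (hl : Data l Tok) (G : Sp4 F) (r : F)
    (h : Exc G r) (ht : Tok ((l : M2 F).det ^ 2 / r + r)) : Good (lvi l) G := by
  obtain ⟨A, B, C, D, hG, h00, h01, -, h11, a01, a11, hr⟩ := h
  refine good_of_column hl G A B C D hG (Or.inl h00) h01 h11 ((l : M2 F).det ^ 2 / r) 1 ?_ ?_ ?_
  · exact Or.inr (Or.inl (by simp))
  · rw [a01, a11]; field_simp; ring
  · rwa [a11]

theorem lower_reduce [Finite F] {l : (M2 F)ˣ} {Tok : F → Prop} (hl : Data l Tok) (t₀ : F)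
    (ht₀ : Tok t₀) (G : Sp4 F) (A B C D : M2 F) (hG : (G : M4 F) = fromBlocks A B C D)
    (hC : C ≠ 0) (hdet : C.det = 0) :
    Good (lvi l) G ∨ ∃ g r, Exc (g * G * g⁻¹) r := by
  -- a basis of the kernel
  obtain ⟨v0, v1, hv, e0, e1⟩ : ∃ v0 v1 : F, (v0 ≠ 0 ∨ v1 ≠ 0) ∧
      C 0 0 * v0 + C 0 1 * v1 = 0 ∧ C 1 0 * v0 + C 1 1 * v1 = 0 := by
    rw [det_fin_two] at hdet
    by_cases h : C 0 0 = 0 ∧ C 0 1 = 0
    · refine ⟨C 1 1, -C 1 0, ?_, by rw [h.1, h.2]; ring, by ring⟩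
      by_contra! hn
      apply hC
      ext i j
      fin_cases i <;> fin_cases j <;> simp [h.1, h.2, hn.1, neg_eq_zero.1 hn.2]
    · refine ⟨C 0 1, -C 0 0, ?_, by ring, by linear_combination -hdet⟩
      by_contra! hn
      exact h ⟨neg_eq_zero.1 hn.2, hn.1⟩
  obtain ⟨P, hP⟩ : ∃ P : M2 F, P.det ≠ 0 ∧ P 0 1 = v0 ∧ P 1 1 = v1 := by
    by_cases h : v0 = 0
    · exact ⟨!![1, v0; 0, v1], by rw [det_fin_two_of]; simpa [h] using hv.resolve_left (· h), rfl, rfl⟩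
    · exact ⟨!![0, v0; 1, v1], by rw [det_fin_two_of]; simpa using h, rfl, rfl⟩
  set R : (M2 F)ˣ := P.nonsingInvUnit (isUnit_iff_ne_zero.2 hP.1) with hR
  have hG' := conj_lvi G A B C D R⁻¹ hG
  rw [inv_inv] at hG'
  set g := lvi R⁻¹
  set A' := ((R⁻¹ : (M2 F)ˣ) : M2 F) * A * (R : M2 F)
  set B' := ((R⁻¹ : (M2 F)ˣ) : M2 F) * B * ((R⁻¹ : (M2 F)ˣ) : M2 F)ᵀ
  set D' := (R : M2 F)ᵀ * D * ((R⁻¹ : (M2 F)ˣ) : M2 F)ᵀ
  obtain ⟨C', hC'⟩ : ∃ C' : M2 F, C' = (R : M2 F)ᵀ * C * (R : M2 F) := ⟨_, rfl⟩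
  rw [← hC'] at hG'
  have hRP : (R : M2 F) = P := rfl
  have hcol : ∀ i, C' i 1 = 0 := fun i => by
    rw [hC', hRP, mul_assoc]
    fin_cases i <;>
      simp [Matrix.mul_apply, Fin.sum_univ_two, hP.2.1, hP.2.2, e0, e1]
  have hne : C' 0 0 ≠ 0 ∨ C' 1 0 ≠ 0 := by
    by_contra! hn
    have h0 : C' = 0 := by ext i j; fin_cases i <;> fin_cases j <;> simp [hn.1, hn.2, hcol]
    apply hC
    have : ((R⁻¹ : (M2 F)ˣ) : M2 F)ᵀ * C' * ((R⁻¹ : (M2 F)ˣ) : M2 F) = C := by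
      rw [hC', ← mul_assoc, ← mul_assoc, transpose_inv_mul_self, one_mul, mul_assoc, Units.mul_inv,
        mul_one]
    rw [← this, h0, mul_zero, zero_mul]
  obtain ⟨h1, -, h3⟩ := mem_data _ hG'
  have hsym := congrFun (congrFun h1 0) 1
  simp [Matrix.mul_apply, Fin.sum_univ_two, hcol] at hsym
  by_cases ha : A' 0 1 = 0
  · by_cases hr : A' 1 1 = 0
    · exfalso
      have := congrFun (congrFun h3 1) 1
      simp [Matrix.mul_apply, Fin.sum_univ_two, hcol, ha, hr] at this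
    · rw [ha, mul_zero, zero_add] at hsym
      have hk : C' 1 0 = 0 := (mul_eq_zero.1 hsym.symm).resolve_right hr
      exact Or.inr ⟨g, A' 1 1, A', B', C', D', hG', hne.resolve_right (· hk), hcol 0, hk, hcol 1,
        ha, rfl, hr⟩
  · left
    apply good_of_conj g
    refine good_of_column hl _ A' B' C' D' hG' hne (hcol 0) (hcol 1) (t₀ - A' 1 1)
      (((t₀ - A' 1 1) * A' 1 1 - (l : M2 F).det ^ 2) / A' 0 1) (Or.inl (by simpa using ha)) ?_ ?_
    · field_simp; ring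
    · simpa using ht₀

theorem dichotomy [Finite F] {l : (M2 F)ˣ} {Tok : F → Prop} (hl : Data l Tok) (t₀ : F)
    (ht₀ : Tok t₀) (G : Sp4 F) (A B C D : M2 F) (hG : (G : M4 F) = fromBlocks A B C D)
    (hC : C ≠ 0) (hadm : C.det ≠ 0 → Adm l Tok C) :
    Good (lvi l) G ∨ ∃ g r, Exc (g * G * g⁻¹) r := by
  by_cases hdet : C.det = 0
  · exact lower_reduce hl t₀ ht₀ G A B C D hG hC hdet
  · exact Or.inl (good_of_adm hl G A B C D hG hdet (hadm hdet))

theorem Exc.inv {G : Sp4 F} {r : F} (h : Exc G r) : Exc G⁻¹ r⁻¹ := by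
  obtain ⟨A, B, C, D, hG, h00, h01, h10, h11, a01, a11, hr⟩ := h
  obtain ⟨-, -, h3⟩ := mem_data G hG
  have d10 := congrFun (congrFun h3 1) 0
  have d11 := congrFun (congrFun h3 1) 1
  simp [Matrix.mul_apply, Fin.sum_univ_two, a01, a11, h01, h11] at d10 d11
  refine ⟨Dᵀ, -Bᵀ, -Cᵀ, Aᵀ, ?_, by simpa using h00, by simpa using h10, by simpa using h01,
    by simpa using h11, ?_, ?_, inv_ne_zero hr⟩
  · rw [SymplecticGroup.coe_inv, hG]
    simp [J, fromBlocks_multiply, fromBlocks_transpose, fromBlocks_neg]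
  · simpa using d10.resolve_left hr
  · simpa using eq_inv_of_mul_eq_one_right d11

/-- The negative of an element. -/
def negElt (G : Sp4 F) : Sp4 F := ⟨-(G : M4 F), SymplecticGroup.neg_mem G.2⟩

theorem negElt_mk (G : Sp4 F) :
    (QuotientGroup.mk (negElt G) : Sp4 F ⧸ Subgroup.center (Sp4 F)) = QuotientGroup.mk G := by
  rw [QuotientGroup.eq]
  rw [Subgroup.mem_center_iff]
  intro g
  have hval : ((((negElt G)⁻¹ * G : Sp4 F)) : M4 F) = -1 := by
    have h : (((negElt G)⁻¹ * negElt G : Sp4 F) : M4 F) = 1 := by rw [inv_mul_cancel]; rfl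
    rw [Submonoid.coe_mul] at h ⊢
    have hneg : (negElt G : M4 F) = -(G : M4 F) := rfl
    rw [hneg, mul_neg] at h
    exact neg_eq_iff_eq_neg.1 h
  apply Subtype.ext
  show (g : M4 F) * (((negElt G)⁻¹ * G : Sp4 F) : M4 F) = (((negElt G)⁻¹ * G : Sp4 F) : M4 F) * (g : M4 F)
  rw [hval]
  simp

theorem negElt_conj (g G : Sp4 F) : negElt (g * G * g⁻¹) = g * negElt G * g⁻¹ :=
  Subtype.ext (by
    show -((g * G * g⁻¹ : Sp4 F) : M4 F) = (g : M4 F) * -(G : M4 F) * (g⁻¹ : Sp4 F)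
    simp [Submonoid.coe_mul])

theorem Exc.neg {G : Sp4 F} {r : F} (h : Exc G r) : Exc (negElt G) (-r) := by
  obtain ⟨A, B, C, D, hG, h00, h01, h10, h11, a01, a11, hr⟩ := h
  refine ⟨-A, -B, -C, -D, ?_, by simpa using h00, by simpa using h01, by simpa using h10,
    by simpa using h11, by simpa using a01, by simpa using a11, neg_ne_zero.2 hr⟩
  show -(G : M4 F) = _
  rw [hG, fromBlocks_neg]

end CfsgLib.PSpFourSquare
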