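import Cfsg.Agent.Lib.PSpFourSquare.Cases
import Mathlib.FieldTheory.Finite.Basic

/-! Fields with at least seven elements, and transport along field isomorphisms. -/

set_option autoImplicit false

namespace CfsgLib.PSpFourSquare

open Matrix

variable {F : Type*} [Field F]

/-- Some element of order dividing `k` has a class whose square covers everything noncentral up to sign. -/
def Covers (F : Type*) [Field F] (k : ℕ) : Prop :=
  ∃ x : Sp4 F, x ^ k = 1 ∧ ∀ G : Sp4 F, G ∉ Subgroup.center (Sp4 F) →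
    Good x G ∨ Good x (negElt G)

/-- Lower unitriangular unit. -/
def loU (k : F) : (M2 F)ˣ :=
  ⟨!![1, 0; k, 1], !![1, 0; -k, 1],
    by ext i j; fin_cases i <;> fin_cases j <;> simp [Matrix.mul_apply, Fin.sum_univ_two],
    by ext i j; fin_cases i <;> fin_cases j <;> simp [Matrix.mul_apply, Fin.sum_univ_two]⟩

/-- Upper unitriangular unit. -/
def upU (k : F) : (M2 F)ˣ :=
  ⟨!![1, k; 0, 1], !![1, -k; 0, 1],
    by ext i j; fin_cases i <;> fin_cases j <;> simp [Matrix.mul_apply, Fin.sum_univ_two],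
    by ext i j; fin_cases i <;> fin_cases j <;> simp [Matrix.mul_apply, Fin.sum_univ_two]⟩

theorem adm_split {l : (M2 F)ˣ} (C : M2 F) (hC : C.det ≠ 0) : Adm l (fun _ => True) C := by
  set t := (l : M2 F).det ^ 2 / C.det with ht
  have h1 : t * C.det = (l : M2 F).det ^ 2 := div_mul_cancel₀ _ hC
  by_cases hn : NonScalar (!![1, 0; 0, t] * C)
  · exact ⟨!![1, 0; 0, t], by ext i j; fin_cases i <;> fin_cases j <;> rfl,
      by rw [det_mul, det_fin_two_of]; linear_combination h1, hn, trivial⟩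
  refine ⟨!![1, 1; 1, t + 1], by ext i j; fin_cases i <;> fin_cases j <;> rfl,
    by rw [det_mul, det_fin_two_of]; linear_combination h1, ?_, trivial⟩
  simp [NonScalar, Matrix.mul_apply, Fin.sum_univ_two, Matrix.vecMul, dotProduct] at hn ⊢
  by_contra! hm
  obtain ⟨a1, a2, a3⟩ := hn
  obtain ⟨b1, b2, b3⟩ := hm
  apply hC
  rw [det_fin_two]
  have c11 : C 1 1 = 0 := by linear_combination b1 - a1
  have c01 : C 0 1 = 0 := a1
  rw [c11, c01]
  ring

theorem covers_split [Fintype F] (h7 : 7 ≤ Fintype.card F) : Covers F (Fintype.card F - 1) := by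
  classical
  have big : ∀ s : Finset F, s.card < Fintype.card F → ∃ a, a ∉ s := fun s hs => by
    by_contra! h
    rw [Finset.eq_univ_iff_forall.2 h] at hs
    simp at hs
  obtain ⟨a, ha⟩ := big {0, 1, -1} (lt_of_le_of_lt Finset.card_le_three (by omega))
  simp only [Finset.mem_insert, Finset.mem_singleton, not_or] at ha
  obtain ⟨ha0, ha1, ha2⟩ := ha
  obtain ⟨b, hb⟩ := big {0, 1, -1, a, a⁻¹} (lt_of_le_of_lt Finset.card_le_five (by omega))
  simp only [Finset.mem_insert, Finset.mem_singleton, not_or] at hb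
  obtain ⟨hb0, hb1, hb2, hba, hba'⟩ := hb
  have sq : ∀ {y : F}, y ≠ 1 → y ≠ -1 → y * y ≠ 1 := fun h1 h2 h => by
    rcases mul_eq_one_iff_eq_inv₀ (fun h0 => by simp [h0] at h) |>.1 h with h'
    rcases mul_self_eq_one_iff.1 h with e | e
    exacts [h1 e, h2 e]
  have haa := sq ha1 ha2
  have hbb := sq hb1 hb2
  have hab : a * b ≠ 1 := fun h => hba' (eq_inv_of_mul_eq_one_right h)
  let l : (M2 F)ˣ := ⟨!![a, 0; 0, b], !![a⁻¹, 0; 0, b⁻¹],
    by ext i j; fin_cases i <;> fin_cases j <;> simp [Matrix.mul_apply, Fin.sum_univ_two, ha0, hb0],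
    by ext i j; fin_cases i <;> fin_cases j <;> simp [Matrix.mul_apply, Fin.sum_univ_two, ha0, hb0]⟩
  have hl : (l : M2 F) = !![a, 0; 0, b] := rfl
  have reg : ∀ Z : M2 F, (!![a, 0; 0, b] : M2 F) * Z * !![a, 0; 0, b] = Z → Z = 0 := by
    intro Z h
    have e : ∀ i j, (![a, b] i * ![a, b] j) * Z i j = Z i j := fun i j => by
      have := congrFun (congrFun h i) j
      fin_cases i <;> fin_cases j <;>
        simp [Matrix.mul_apply, Fin.sum_univ_two, Matrix.vecMul, dotProduct] at this <;>
        simp <;> linear_combination this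
    have f : ∀ {c z : F}, c * z = z → c ≠ 1 → z = 0 := fun {c z} hz hc => by
      by_contra hz0
      exact hc (by simpa [hz0] using mul_right_cancel₀ hz0 (hz.trans (one_mul z).symm))
    ext i j
    fin_cases i <;> fin_cases j
    · exact f (e 0 0) haa
    · exact f (e 0 1) hab
    · exact f (e 1 0) (by simpa [mul_comm b a] using hab)
    · exact f (e 1 1) hbb
  have hlT : (l : M2 F)ᵀ = l := by rw [hl]; ext i j; fin_cases i <;> fin_cases j <;> rfl
  have hdata : Data l (fun _ => True) := by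
    refine ⟨⟨fun Z _ h => reg Z (by rwa [hlT] at h), fun Z _ h => reg Z (by rwa [hlT] at h)⟩,
      fun t _ => ?_⟩
    set m := a ^ 2 * (t - a ^ 2) - a ^ 2 * b ^ 2 with hm
    have d1 : a - b ≠ 0 := sub_ne_zero.2 (Ne.symm hba)
    have d2 : b - a ≠ 0 := sub_ne_zero.2 hba
    refine ⟨upU (-(a ^ 2)) * loU (1 / (a * (a - b))), upU (-(a ^ 2)) * upU (m / (a * (b - a))), ?_⟩
    have key : comp ((l : M2 F).det ^ 2) t * (upU (-(a ^ 2)) : (M2 F)ˣ) =
        (upU (-(a ^ 2)) : (M2 F)ˣ) * (!![a, 0; 1 / a, b] * !![a, m / a; 0, b] : M2 F) := by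
      ext i j
      fin_cases i <;> fin_cases j <;>
        simp [comp, upU, hl, det_fin_two_of, Matrix.mul_apply, Fin.sum_univ_two, Matrix.vecMul,
          dotProduct, hm] <;> field_simp <;> ring
    have k1 : (!![a, 0; 1 / a, b] : M2 F) =
        ((loU (1 / (a * (a - b))) * l * (loU (1 / (a * (a - b))))⁻¹ : (M2 F)ˣ) : M2 F) := by
      rw [Units.val_mul, Units.val_mul]
      refine (Units.eq_mul_inv_iff_mul_eq (loU (1 / (a * (a - b))))).2 ?_
      ext i j
      fin_cases i <;> fin_cases j <;>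
        simp [loU, hl, Matrix.mul_apply, Fin.sum_univ_two, Matrix.vecMul, dotProduct]
      field_simp
      ring
    have k2 : (!![a, m / a; 0, b] : M2 F) =
        ((upU (m / (a * (b - a))) * l * (upU (m / (a * (b - a))))⁻¹ : (M2 F)ˣ) : M2 F) := by
      rw [Units.val_mul, Units.val_mul]
      refine (Units.eq_mul_inv_iff_mul_eq (upU (m / (a * (b - a))))).2 ?_
      ext i j
      fin_cases i <;> fin_cases j <;>
        simp [upU, hl, Matrix.mul_apply, Fin.sum_univ_two, Matrix.vecMul, dotProduct]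
      field_simp
      ring
    rw [k1, k2] at key
    generalize loU (1 / (a * (a - b))) = P at key ⊢
    generalize upU (m / (a * (b - a))) = Q at key ⊢
    generalize upU (-(a ^ 2)) = R at key ⊢
    have : R * P * l * (R * P)⁻¹ * (R * Q * l * (R * Q)⁻¹) =
        R * (P * l * P⁻¹ * (Q * l * Q⁻¹)) * R⁻¹ := by group
    rw [this, Units.val_mul, Units.val_mul, Units.val_mul, ← key, mul_assoc, Units.mul_inv, mul_one]
  refine ⟨lvi l, ?_, fun G hG => Or.inl ?_⟩
  · rw [← map_pow, show l ^ (Fintype.card F - 1) = 1 from Units.ext ?_, map_one]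
    rw [Units.val_pow_eq_pow_val, hl, Units.val_one]
    have hd : (!![a, 0; 0, b] : M2 F) = diagonal ![a, b] := by
      ext i j; fin_cases i <;> fin_cases j <;> rfl
    rw [hd, diagonal_pow, ← diagonal_one]
    congr 1
    funext i
    fin_cases i <;>
      simp [FiniteField.pow_card_sub_one_eq_one _ ha0, FiniteField.pow_card_sub_one_eq_one _ hb0]
  · obtain ⟨g, A, B, C, D, hg, hC⟩ := exists_lower_ne_zero G hG
    apply good_of_conj g
    rcases dichotomy hdata 0 trivial _ A B C D hg hC (adm_split C) with h | ⟨g', r, hexc⟩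
    · exact h
    · exact good_of_conj g' (good_of_exc hdata _ r hexc trivial)

theorem negElt_map {K : Type*} [Field K] (G : Sp4 K) (e : K ≃+* F) :
    (negElt G : M4 K).map e = -((G : M4 K).map e) := by
  show (-(G : M4 K)).map e = _
  ext i j
  simp

/-- Transport of `Sp₄` along a field isomorphism. -/
def spEquiv {K : Type*} [Field K] (e : K ≃+* F) : Sp4 K ≃* Sp4 F where
  toFun G := ⟨(G : M4 K).map e, SymplecticGroup.map_mem G.2 e⟩
  invFun G := ⟨(G : M4 F).map e.symm, SymplecticGroup.map_mem G.2 e.symm⟩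
  left_inv G := Subtype.ext (by ext i j; simp)
  right_inv G := Subtype.ext (by ext i j; simp)
  map_mul' G H := Subtype.ext (Matrix.map_mul)

theorem Covers.transport {K : Type*} [Field K] (e : K ≃+* F) {k : ℕ} (h : Covers K k) :
    Covers F k := by
  obtain ⟨x, hxk, hx⟩ := h
  set φ := spEquiv e with hφ
  have hmap : ∀ {G : Sp4 K}, Good x G → Good (φ x) (φ G) := fun {G} hG => by
    obtain ⟨u, v, rfl⟩ := hG
    exact ⟨φ u, φ v, by simp⟩
  refine ⟨φ x, by rw [← map_pow, hxk, map_one], fun G hG => ?_⟩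
  obtain ⟨G₀, rfl⟩ := φ.surjective G
  have hG₀ : G₀ ∉ Subgroup.center (Sp4 K) := fun hc => hG (by
    rw [Subgroup.mem_center_iff] at hc ⊢
    intro g
    obtain ⟨g₀, rfl⟩ := φ.surjective g
    rw [← map_mul, ← map_mul, hc g₀])
  rcases hx G₀ hG₀ with h | h
  · exact Or.inl (hmap h)
  · refine Or.inr ?_
    have he : negElt (φ G₀) = φ (negElt G₀) := Subtype.ext (negElt_map G₀ e).symm
    rw [he]
    exact hmap h

end CfsgLib.PSpFourSquare
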