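import Cfsg.Agent.Lib.PSpFourSquare.Main
import Cfsg.Agent.Lib.Recog.GF4
import Mathlib.Algebra.Field.ZMod
import Mathlib.Data.ZMod.Basic

/-! The fields with three, four and five elements: an element acting irreducibly on two totally
isotropic planes. -/

set_option autoImplicit false

namespace CfsgLib.PSpFourSquare

open Matrix CfsgLib.Recog.GF4

variable {F : Type*} [Field F]

/-- A unit from a matrix and its inverse. -/
def mkU (P P' : M2 F) (h : P * P' = 1) : (M2 F)ˣ := ⟨P, P', h, mul_eq_one_comm.1 h⟩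

theorem coe_mkU (P P' : M2 F) (h : P * P' = 1) : (mkU P P' h : M2 F) = P := rfl

theorem coe_inv_mkU (P P' : M2 F) (h : P * P' = 1) :
    (((mkU P P' h)⁻¹ : (M2 F)ˣ) : M2 F) = P' := rfl

theorem exists_witness (l : (M2 F)ˣ) (t : F) (P P' Q Q' : M2 F)
    (h : P * P' = 1 ∧ Q * Q' = 1 ∧
      comp ((l : M2 F).det ^ 2) t = P * (l : M2 F) * P' * (Q * (l : M2 F) * Q')) :
    ∃ P Q : (M2 F)ˣ,
      comp ((l : M2 F).det ^ 2) t = ((P * l * P⁻¹ * (Q * l * Q⁻¹) : (M2 F)ˣ) : M2 F) :=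
  ⟨mkU P P' h.1, mkU Q Q' h.2.1, h.2.2⟩

theorem regular_of_scalars (l : (M2 F)ˣ)
    (h : ∀ a b c : F, ((l : M2 F)ᵀ * !![a, b; b, c] * (l : M2 F) = !![a, b; b, c] ∨
      (l : M2 F) * !![a, b; b, c] * (l : M2 F)ᵀ = !![a, b; b, c]) → a = 0 ∧ b = 0 ∧ c = 0) :
    Regular l := by
  have key : ∀ Z : M2 F, Zᵀ = Z → ((l : M2 F)ᵀ * Z * (l : M2 F) = Z ∨
      (l : M2 F) * Z * (l : M2 F)ᵀ = Z) → Z = 0 := by
    intro Z hZ h'
    have e : Z 1 0 = Z 0 1 := congrFun (congrFun hZ 0) 1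
    have hz : Z = !![Z 0 0, Z 0 1; Z 0 1, Z 1 1] := by
      ext i j; fin_cases i <;> fin_cases j <;> simp [e]
    rw [hz] at h' ⊢
    obtain ⟨a, b, c⟩ := h _ _ _ h'
    ext i j; fin_cases i <;> fin_cases j <;> simp [a, b, c]
  exact ⟨fun Z hZ h' => key Z hZ (Or.inl h'), fun Z hZ h' => key Z hZ (Or.inr h')⟩

theorem adm_of_scalars (l : (M2 F)ˣ) (τ : F) (C : M2 F)
    (h : ∃ a b c : F, (a * c - b * b) * (C 0 0 * C 1 1 - C 0 1 * C 1 0) = (l : M2 F).det ^ 2 ∧
      (a * C 0 1 + b * C 1 1 ≠ 0 ∨ b * C 0 0 + c * C 1 0 ≠ 0 ∨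
        a * C 0 0 + b * C 1 0 ≠ b * C 0 1 + c * C 1 1) ∧
      a * C 0 0 + b * C 1 0 + (b * C 0 1 + c * C 1 1) ≠ τ) : Adm l (· ≠ τ) C := by
  obtain ⟨a, b, c, hd, hn, ht⟩ := h
  have e : ∀ i j, (!![a, b; b, c] * C) i j = ![![a, b], ![b, c]] i 0 * C 0 j + ![![a, b], ![b, c]] i 1 * C 1 j :=
    fun i j => by rw [Matrix.mul_apply, Fin.sum_univ_two]; rfl
  refine ⟨!![a, b; b, c], by ext i j; fin_cases i <;> fin_cases j <;> rfl, ?_, ?_, ?_⟩
  · rw [det_mul, det_fin_two_of, det_fin_two C]; exact hd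
  · unfold NonScalar; rw [e, e, e, e]; exact hn
  · rw [trace_fin_two, e, e]; exact ht

theorem covers_odd [Finite F] {l : (M2 F)ˣ} {τ t₀ : F} (hl : Data l (· ≠ τ)) (ht₀ : t₀ ≠ τ) (k : ℕ)
    (hk : l ^ k = 1) (hadm : ∀ C : M2 F, C.det ≠ 0 → Adm l (· ≠ τ) C)
    (hexc : ∀ r : F, r ≠ 0 → (l : M2 F).det ^ 2 / r + r ≠ τ ∨ (l : M2 F).det ^ 2 / -r + -r ≠ τ) :
    Covers F k := by
  refine ⟨lvi l, by rw [← map_pow, hk, map_one], fun G hG => ?_⟩
  obtain ⟨g, A, B, C, D, hg, hC⟩ := exists_lower_ne_zero G hG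
  rcases dichotomy hl t₀ ht₀ _ A B C D hg hC (hadm C) with h | ⟨g', r, hexc'⟩
  · exact Or.inl (good_of_conj g h)
  have hr : r ≠ 0 := by obtain ⟨_, _, _, _, -, -, -, -, -, -, -, h⟩ := hexc'; exact h
  rcases hexc r hr with h | h
  · exact Or.inl (good_of_conj g (good_of_conj g' (good_of_exc hl _ r hexc' h)))
  · refine Or.inr (good_of_conj g (good_of_conj g' ?_))
    have := good_of_exc hl _ _ hexc'.neg h
    rwa [negElt_conj, negElt_conj] at this

section Three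

local instance : Fact (Nat.Prime 3) := ⟨Nat.prime_three⟩

/-- The element for three elements. -/
def l3 : (M2 (ZMod 3))ˣ := mkU !![0, 1; 1, 1] !![2, 1; 1, 0] (by decide +kernel)

theorem data3 : Data l3 (· ≠ 1) := by
  refine ⟨regular_of_scalars l3 (by decide +kernel), fun t ht => ?_⟩
  fin_cases t
  · exact exists_witness _ _ !![1, 1; 1, 0] !![0, 1; 1, 2] !![1, 1; 1, 0] !![0, 1; 1, 2] (by decide +kernel)
  · exact absurd rfl ht
  · exact exists_witness _ _ !![0, 1; 1, 0] !![0, 1; 1, 0] !![0, 1; 2, 0] !![0, 2; 1, 0] (by decide +kernel)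

theorem covers3 : Covers (ZMod 3) 8 := by
  refine covers_odd data3 (t₀ := 0) (by decide +kernel) 8 (by decide +kernel) (fun C hC => ?_) (by decide +kernel)
  refine adm_of_scalars l3 1 C ?_
  rw [det_fin_two] at hC
  revert hC
  generalize C 0 0 = c00, C 0 1 = c01, C 1 0 = c10, C 1 1 = c11
  revert c00 c01 c10 c11
  decide +kernel

end Three

section Five

local instance : Fact (Nat.Prime 5) := ⟨Nat.prime_five⟩

/-- The element for five elements. -/
def l5 : (M2 (ZMod 5))ˣ := mkU !![0, 3; 1, 1] !![3, 1; 2, 0] (by decide +kernel)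

theorem data5 : Data l5 (· ≠ 4) := by
  refine ⟨regular_of_scalars l5 (by decide +kernel), fun t ht => ?_⟩
  fin_cases t
  · exact exists_witness _ _ !![0, 2; 2, 1] !![1, 3; 3, 0] !![1, 0; 2, 2] !![1, 0; 4, 3] (by decide +kernel)
  · exact exists_witness _ _ !![0, 1; 2, 0] !![0, 3; 1, 0] !![0, 1; 1, 0] !![0, 1; 1, 0] (by decide +kernel)
  · exact exists_witness _ _ !![1, 2; 0, 1] !![1, 3; 0, 1] !![1, 2; 0, 1] !![1, 3; 0, 1] (by decide +kernel)
  · exact exists_witness _ _ !![0, 2; 1, 0] !![0, 1; 3, 0] !![1, 1; 1, 0] !![0, 1; 1, 4] (by decide +kernel)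
  · exact absurd rfl ht

theorem covers5 : Covers (ZMod 5) 24 := by
  refine covers_odd data5 (t₀ := 0) (by decide +kernel) 24 (by decide +kernel) (fun C hC => ?_) (by decide +kernel)
  refine adm_of_scalars l5 4 C ?_
  rw [det_fin_two] at hC
  revert hC
  generalize C 0 0 = c00, C 0 1 = c01, C 1 0 = c10, C 1 1 = c11
  revert c00 c01 c10 c11
  decide +kernel

end Five

section Four

/-- A primitive element. -/
def w4 : K4 := ⟨2⟩

/-- Its square. -/
def v4 : K4 := ⟨3⟩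

/-- The element for four elements. -/
def l4 : (M2 K4)ˣ := mkU !![0, w4; 1, 1] !![v4, 1; v4, 0] (by decide +kernel)

theorem data4 : Data l4 (· ≠ 0) := by
  refine ⟨regular_of_scalars l4 (by decide +kernel), fun t ht => ?_⟩
  rcases t with ⟨i⟩
  fin_cases i
  · exact absurd rfl ht
  · exact exists_witness _ _ !![0, 1; w4, 1] !![v4, v4; 1, 0] !![0, 1; w4, 1] !![v4, v4; 1, 0] (by decide +kernel)
  · exact exists_witness _ _ !![0, 1; 1, 0] !![0, 1; 1, 0] !![0, 1; 1, w4] !![w4, 1; 1, 0] (by decide +kernel)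
  · exact exists_witness _ _ !![0, w4; 1, 0] !![0, 1; v4, 0] !![0, 1; w4, 0] !![0, v4; 1, 0] (by decide +kernel)

/-- Alternating lower block. -/
def Alt (C : M2 K4) : Prop := C 0 0 = 0 ∧ C 1 1 = 0 ∧ C 0 1 = C 1 0

theorem adm4 (C : M2 K4) (hC : C.det ≠ 0) (hA : ¬ Alt C) : Adm l4 (· ≠ 0) C := by
  refine adm_of_scalars l4 0 C ?_
  rw [det_fin_two] at hC
  unfold Alt at hA
  revert hC hA
  generalize C 0 0 = c00, C 0 1 = c01, C 1 0 = c10, C 1 1 = c11
  revert c00 c01 c10 c11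
  decide +kernel

/-- Swap. -/
def J2 : M2 K4 := !![0, 1; 1, 0]

theorem inv_conj4 : ∃ g : Sp4 K4, (lvi l4)⁻¹ = g * lvi l4 * g⁻¹ := by
  refine ⟨SymplecticGroup.symJ (Fin 2) K4 * lvi (mkU !![0, 1; 1, 1] !![1, 1; 1, 0] (by decide +kernel)), ?_⟩
  rw [← map_inv, eq_mul_inv_iff_mul_eq]
  apply Subtype.ext
  simp only [Submonoid.coe_mul, coe_lvi, SymplecticGroup.coe_J, J, fromBlocks_multiply, mul_one,
    mul_zero, add_zero, zero_add, zero_mul, one_mul, inv_inv, neg_mul, mul_neg]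
  congr 1 <;> decide +kernel

theorem good_of_inv (G : Sp4 K4) (h : Good (lvi l4) G⁻¹) : Good (lvi l4) G := by
  obtain ⟨g, hg⟩ := inv_conj4
  obtain ⟨u, v, huv⟩ := h
  refine ⟨v * g, u * g, ?_⟩
  rw [← inv_inv G, huv]
  calc (u * lvi l4 * u⁻¹ * (v * lvi l4 * v⁻¹))⁻¹
      = v * (lvi l4)⁻¹ * v⁻¹ * (u * (lvi l4)⁻¹ * u⁻¹) := by group
    _ = _ := by rw [hg]; group

theorem good_swap (G : Sp4 K4) (hG : (G : M4 K4) = fromBlocks 0 J2 J2 0) : Good (lvi l4) G := by
  refine ⟨⟨fromBlocks 0 !![1, 0; 1, 1] !![1, 1; 0, 1] !![1, 1; 1, 0], ?_⟩,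
    ⟨fromBlocks J2 !![v4, 0; 0, v4] 1 !![0, w4; w4, 0], ?_⟩, Subtype.ext ?_⟩
  · rw [SymplecticGroup.fromBlocks_mem_iff]; decide +kernel
  · rw [SymplecticGroup.fromBlocks_mem_iff]; decide +kernel
  · simp only [Submonoid.coe_mul, SymplecticGroup.coe_inv, coe_lvi, hG, J, fromBlocks_transpose,
      fromBlocks_neg, fromBlocks_multiply]
    congr 1 <;> decide +kernel

theorem good_of_exc4 (G : Sp4 K4) (r : K4) (h : Exc G r) : Good (lvi l4) G := by
  have key : ∀ r : K4, r ≠ 0 → (l4 : M2 K4).det ^ 2 / r + r ≠ 0 ∨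
      (l4 : M2 K4).det ^ 2 / r⁻¹ + r⁻¹ ≠ 0 := by decide +kernel
  have hr : r ≠ 0 := by obtain ⟨_, _, _, _, -, -, -, -, -, -, -, h'⟩ := h; exact h'
  rcases key r hr with h' | h'
  · exact good_of_exc data4 _ r h h'
  · exact good_of_inv G (good_of_exc data4 _ _ h.inv h')

theorem good_nonalt (G : Sp4 K4) (A B C D : M2 K4) (hG : (G : M4 K4) = fromBlocks A B C D)
    (hC : C ≠ 0) (hA : ¬ Alt C) : Good (lvi l4) G := by
  rcases dichotomy data4 1 (by decide +kernel) G A B C D hG hC (fun hd => adm4 C hd hA) with h | ⟨g, r, h⟩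
  · exact h
  · exact good_of_conj g (good_of_exc4 _ r h)

theorem covers4 : Covers K4 15 := by
  refine ⟨lvi l4, by rw [← map_pow, show l4 ^ 15 = 1 by decide +kernel, map_one], fun G hG => Or.inl ?_⟩
  obtain ⟨g, A, B, C, D, hg, hC⟩ := exists_lower_ne_zero G hG
  apply good_of_conj g
  generalize g * G * g⁻¹ = H at hg
  by_cases hA : Alt C
  swap
  · exact good_nonalt H A B C D hg hC hA
  obtain ⟨hA0, hA1, hA2⟩ := hA
  obtain ⟨c, hc0, rfl⟩ : ∃ c, c ≠ 0 ∧ C = !![0, c; c, 0] := by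
    refine ⟨C 0 1, fun h => hC ?_, ?_⟩
    · rw [h] at hA2
      ext i j; fin_cases i <;> fin_cases j <;> simp [hA0, hA1, h, ← hA2]
    · ext i j; fin_cases i <;> fin_cases j <;> simp [hA0, hA1]
      exact hA2.symm
  have hdet : (!![0, c; c, 0] : M2 K4).det ≠ 0 := by
    rw [det_fin_two_of]; simpa using hc0
  obtain ⟨h1, -, -⟩ := mem_data H hg
  have hu := isUnit_iff_ne_zero.2 hdet
  set S := -(A * (!![0, c; c, 0] : M2 K4)⁻¹) with hSdef
  have hS : Sᵀ = S := by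
    rw [hSdef, transpose_neg, transpose_mul, transpose_nonsing_inv]
    congr 1
    have hut : IsUnit (!![0, c; c, 0] : M2 K4)ᵀ.det := by rwa [det_transpose]
    calc (!![0, c; c, 0] : M2 K4)ᵀ⁻¹ * Aᵀ
        = (!![0, c; c, 0] : M2 K4)ᵀ⁻¹ * (Aᵀ * !![0, c; c, 0]) * (!![0, c; c, 0] : M2 K4)⁻¹ := by
          rw [mul_assoc, mul_assoc, mul_nonsing_inv _ hu, mul_one]
      _ = _ := by rw [h1, ← mul_assoc, nonsing_inv_mul _ hut, one_mul]
  apply good_of_conj (upp S hS)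
  have hH := conj_upp H A B _ D S hg hS
  rw [show A + S * !![0, c; c, 0] = 0 by
    rw [hSdef, neg_mul, mul_assoc, nonsing_inv_mul _ hu, mul_one, add_neg_cancel], zero_mul,
    sub_zero] at hH
  generalize upp S hS * H * (upp S hS)⁻¹ = K at hH
  generalize B + S * D = B' at hH
  generalize D - !![0, c; c, 0] * S = D' at hH
  obtain ⟨-, -, h3⟩ := mem_data K hH
  have b0 : B' 0 0 = 0 := by
    have := congrFun (congrFun h3 1) 0
    simp [Matrix.mul_apply, Matrix.vecMul, dotProduct, Fin.sum_univ_two] at this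
    exact this.resolve_left hc0
  have b1 : B' 1 1 = 0 := by
    have := congrFun (congrFun h3 0) 1
    simp [Matrix.mul_apply, Matrix.vecMul, dotProduct, Fin.sum_univ_two] at this
    exact this.resolve_left hc0
  have b10 : c * B' 1 0 = 1 := by
    have := congrFun (congrFun h3 0) 0
    simp [Matrix.mul_apply, Matrix.vecMul, dotProduct, Fin.sum_univ_two] at this
    linear_combination -this - (two_eq_zero : (2 : K4) = 0)
  have b01 : c * B' 0 1 = 1 := by
    have := congrFun (congrFun h3 1) 1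
    simp [Matrix.mul_apply, Matrix.vecMul, dotProduct, Fin.sum_univ_two] at this
    linear_combination -this - (two_eq_zero : (2 : K4) = 0)
  by_cases hD : D' = 0
  · subst hD
    let P : (M2 K4)ˣ := mkU !![c, 0; 0, 1] !![c⁻¹, 0; 0, 1] (by
      ext i j; fin_cases i <;> fin_cases j <;> simp [Matrix.mul_apply, Fin.sum_univ_two, hc0])
    apply good_of_conj (lvi P)
    apply good_swap
    rw [conj_lvi K _ _ _ _ P hH]
    simp only [mul_zero, zero_mul, P, coe_mkU, coe_inv_mkU, J2]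
    congr 1 <;> ext i j <;> fin_cases i <;> fin_cases j <;>
      simp [Matrix.mul_apply, Matrix.vecMul, dotProduct, Fin.sum_univ_two, b0, b1, hc0, b01]
    rw [mul_comm]; exact b10
  · have key : ∀ a b d : K4,
        ((low !![a, b; b, d] (by ext i j; fin_cases i <;> fin_cases j <;> rfl) * K *
          (low !![a, b; b, d] (by ext i j; fin_cases i <;> fin_cases j <;> rfl))⁻¹ : Sp4 K4) : M4 K4) =
        fromBlocks (0 - B' * !![a, b; b, d]) B'
          (!![0, c; c, 0] + !![a, b; b, d] * 0 - (D' + !![a, b; b, d] * B') * !![a, b; b, d])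
          (D' + !![a, b; b, d] * B') := fun a b d => conj_low K _ _ _ _ _ hH _
    have hq : ∃ a b d : K4,
        (!![0, c; c, 0] + !![a, b; b, d] * 0 - (D' + !![a, b; b, d] * B') * !![a, b; b, d] : M2 K4) 0 0 ≠ 0 ∨
        (!![0, c; c, 0] + !![a, b; b, d] * 0 - (D' + !![a, b; b, d] * B') * !![a, b; b, d] : M2 K4) 1 1 ≠ 0 := by
      by_contra! hn
      apply hD
      ext i j
      fin_cases i <;> fin_cases j
      · simpa [Matrix.mul_apply, Matrix.vecMul, dotProduct, Fin.sum_univ_two, b0, b1] using (hn 1 0 0).1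
      · simpa [Matrix.mul_apply, Matrix.vecMul, dotProduct, Fin.sum_univ_two, b0, b1] using (hn 0 1 0).1
      · simpa [Matrix.mul_apply, Matrix.vecMul, dotProduct, Fin.sum_univ_two, b0, b1] using (hn 0 1 0).2
      · simpa [Matrix.mul_apply, Matrix.vecMul, dotProduct, Fin.sum_univ_two, b0, b1] using (hn 0 0 1).2
    obtain ⟨a, b, d, habd⟩ := hq
    refine good_of_conj _ (good_nonalt _ _ _ _ _ (key a b d) (fun h0 => ?_) (fun hA' => ?_))
    · rw [h0] at habd; simp at habd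
    · exact habd.elim (· hA'.1) (· hA'.2.1)

end Four

end CfsgLib.PSpFourSquare
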